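import Groth.Prelude.Def_FSRel
import Groth.Agent.CharHomEquiv.Classify

/-!
# Relative formal smoothness, extensions and the map on differentials
-/

set_option autoImplicit false
universe u
open TensorProduct KaehlerDifferential

namespace Groth.Agent.CharHomRel

open Groth.Agent.CharHomEquiv

variable {Λ A B : Type u} [CommRing Λ] [CommRing A] [CommRing B] [Algebra Λ A] [Algebra Λ B]
  [Algebra A B] [IsScalarTower Λ A B]

theorem isTrivial_of_rel (h : EGA41.IsFormallySmoothRel Λ A B) {L : Type u} [AddCommGroup L]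
    [Module B L] (X : Exal.Ext A B L) (hX : X.IsTrivialOver Λ) : X.IsTrivial := by
  let p : X.CharCarrier Λ →ₐ[A] B := IsScalarTower.toAlgHom A (X.CharCarrier Λ) B
  have hp : Function.Surjective p := X.isExtension.proj_surjective
  have hsq : RingHom.ker p ^ 2 = ⊥ := by
    rw [pow_two, eq_bot_iff, Ideal.mul_le]
    intro x hx y hy
    obtain ⟨z, rfl⟩ := (X.isExtension.exact y).1 hy
    rw [Ideal.mem_bot]
    change x * X.inclC Λ z = 0
    rw [Groth.Agent.S5820.mul_inclC]
    change X.inclC Λ (p x • z) = 0
    rw [RingHom.mem_ker.1 hx, zero_smul, map_zero]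
  obtain ⟨s⟩ := sec_nonempty X hX
  let e := Ideal.quotientKerAlgEquivOfSurjective hp
  obtain ⟨v, hv⟩ := h (X.CharCarrier Λ) (RingHom.ker p) hsq e.symm.toAlgHom ⟨s.hom, by
    refine AlgHom.ext fun b => ?_
    apply e.injective
    change e (Ideal.Quotient.mk _ (s.hom b)) = e (e.symm b)
    rw [AlgEquiv.apply_symm_apply]
    exact (Ideal.quotientKerAlgEquivOfSurjective_mk hp _).trans (s.spec b)⟩
  refine ⟨{ toRingHom := v.toRingHom, commutes' := v.commutes }, fun b => ?_⟩
  have := congrArg e (AlgHom.congr_fun hv b)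
  rw [AlgEquiv.coe_toAlgHom, AlgEquiv.apply_symm_apply] at this
  exact (Ideal.quotientKerAlgEquivOfSurjective_mk hp _).symm.trans this

theorem rel_of_forall_isTrivial
    (h : ∀ (L : Type u) [AddCommGroup L] [Module B L] (X : Exal.Ext A B L),
      X.IsTrivialOver Λ → X.IsTrivial) :
    EGA41.IsFormallySmoothRel Λ A B := by
  intro C _ _ _ _ J hJ u₀ ⟨u, hu⟩
  have hu' : ∀ b, Ideal.Quotient.mk J (u b) = u₀ b := AlgHom.congr_fun hu
  let E : Subalgebra A (C × B) :=
    AlgHom.equalizer ((Ideal.Quotient.mkₐ A J).comp (AlgHom.fst A C B))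
      (u₀.comp (AlgHom.snd A C B))
  have memE : ∀ z : C × B, z ∈ E ↔ Ideal.Quotient.mk J z.1 = u₀ z.2 := fun z => Iff.rfl
  have hJJ : ∀ x ∈ J, ∀ y ∈ J, x * y = 0 := fun x hx y hy => by
    rw [← Ideal.mem_bot, ← hJ, pow_two]
    exact Ideal.mul_mem_mul hx hy
  letI : Module B J := Module.compHom _ (u : B →+* C)
  have hsmul : ∀ (b : B) (j : J), ((b • j : J) : C) = u b * (j : C) := fun b j => rfl
  let X : Exal.Ext A B J :=
    { E := E
      proj := (AlgHom.snd A C B).comp E.val
      incl :=
        { toFun := fun j => ⟨((j : C), 0), (memE _).2 (by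
            simp [Ideal.Quotient.eq_zero_iff_mem.2 j.2])⟩
          map_zero' := rfl
          map_add' := fun a b => Subtype.ext (Prod.ext rfl (add_zero _).symm) }
      isExtension :=
        { proj_surjective := fun b => ⟨⟨(u b, b), (memE _).2 (hu' b)⟩, rfl⟩
          incl_injective := fun a b hab => Subtype.ext (congrArg (fun z : E => z.1.1) hab)
          exact := fun z => by
            constructor
            · intro hz
              change z.1.2 = 0 at hz
              have h1 := (memE _).1 z.2
              rw [hz, map_zero, Ideal.Quotient.eq_zero_iff_mem] at h1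
              exact ⟨⟨z.1.1, h1⟩, Subtype.ext (Prod.ext rfl hz.symm)⟩
            · rintro ⟨j, rfl⟩
              rfl
          mul_incl := fun z j => by
            refine Subtype.ext (Prod.ext ?_ (mul_zero _))
            change z.1.1 * (j : C) = ((z.1.2 • j : J) : C)
            rw [hsmul, ← sub_eq_zero, ← sub_mul]
            refine hJJ _ ?_ _ j.2
            rw [← Ideal.Quotient.eq_zero_iff_mem, map_sub, (memE _).1 z.2, hu', sub_self] } }
  have hX : X.IsTrivialOver Λ := by
    let t : B →+* E :=
      { toFun := fun b => ⟨(u b, b), (memE _).2 (hu' b)⟩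
        map_one' := Subtype.ext (Prod.ext (map_one u) rfl)
        map_mul' := fun a b => Subtype.ext (Prod.ext (map_mul u a b) rfl)
        map_zero' := Subtype.ext (Prod.ext (map_zero u) rfl)
        map_add' := fun a b => Subtype.ext (Prod.ext (map_add u a b) rfl) }
    refine ⟨{ toRingHom := t, commutes' := fun a => ?_ }, fun b => rfl⟩
    refine Subtype.ext (Prod.ext ?_ ?_)
    · change u (algebraMap Λ B a) = algebraMap A C (algebraMap Λ A a)
      rw [AlgHom.commutes, ← IsScalarTower.algebraMap_apply]
    · change algebraMap Λ B a = algebraMap A B (algebraMap Λ A a)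
      exact IsScalarTower.algebraMap_apply Λ A B a
  obtain ⟨s, hs⟩ := h J X hX
  refine ⟨(AlgHom.fst A C B).comp (E.val.comp s), AlgHom.ext fun b => ?_⟩
  have h1 := (memE _).1 (s b).2
  have h2 : (s b).1.2 = b := hs b
  rw [h2] at h1
  exact h1

theorem rel_iff_isTrivial :
    EGA41.IsFormallySmoothRel Λ A B ↔
      ∀ (L : Type u) [AddCommGroup L] [Module B L] (X : Exal.Ext A B L),
        X.IsTrivialOver Λ → X.IsTrivial :=
  ⟨fun h _ _ _ X hX => isTrivial_of_rel h X hX, rel_of_forall_isTrivial⟩

/-- Relative formal smoothness is the left invertibility of `B ⊗ Ω_{A/Λ} → Ω_{B/Λ}`. -/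
theorem exists_leftInverse_iff :
    (∃ l : Ω[B⁄Λ] →ₗ[B] B ⊗[A] Ω[A⁄Λ],
        l ∘ₗ KaehlerDifferential.mapBaseChange Λ A B = LinearMap.id) ↔
      EGA41.IsFormallySmoothRel Λ A B := by
  constructor
  · rintro ⟨l, hl⟩
    refine rel_of_forall_isTrivial fun L _ _ X hX => ?_
    letI : Module Λ L := Module.compHom L (algebraMap Λ B)
    letI : Module A L := Module.compHom L (algebraMap A B)
    haveI : IsScalarTower Λ B L := IsScalarTower.of_compHom Λ B L
    haveI : IsScalarTower A B L := IsScalarTower.of_compHom A B L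
    haveI : IsScalarTower Λ A L := IsScalarTower.to₁₂₄ Λ A B L
    obtain ⟨D, ⟨e⟩⟩ := (isTrivialOver_iff X).1 hX
    obtain ⟨t, ht⟩ := (ofDerivation_isTrivial_iff D).2
      ⟨((linOf B D).comp l).compDer (KaehlerDifferential.D Λ B), by
        ext a
        change linOf B D (l (KaehlerDifferential.D Λ B (algebraMap A B a))) = D a
        have := LinearMap.congr_fun hl ((1 : B) ⊗ₜ KaehlerDifferential.D Λ A a)
        rw [LinearMap.comp_apply, LinearMap.id_apply, mapBaseChange_tmul, map_D, one_smul] at this
        rw [this, linOf_tmul_D, one_smul]⟩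
    exact ⟨e.symm.toAlgEquiv.toAlgHom.comp t, fun b => (e.symm.proj_apply _).trans (ht b)⟩
  · intro h
    let D : Derivation Λ A (B ⊗[A] Ω[A⁄Λ]) :=
      (TensorProduct.mk A B Ω[A⁄Λ] 1).compDer (KaehlerDifferential.D Λ A)
    obtain ⟨D', hD'⟩ := (ofDerivation_isTrivial_iff D).1
      (isTrivial_of_rel h _ (isTrivialOver_of_sec _ (secOfDer (C := B) D)))
    refine ⟨D'.liftKaehlerDifferential, ext_tmul_D fun a => ?_⟩
    rw [LinearMap.comp_apply, mapBaseChange_tmul, map_D, one_smul,
      Derivation.liftKaehlerDifferential_comp_D, LinearMap.id_apply]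
    exact Derivation.congr_fun hD' a

theorem injective_baseChange (h : EGA41.IsFormallySmoothRel Λ A B) (C : Type u) [CommRing C]
    [Algebra B C] :
    Function.Injective ((KaehlerDifferential.mapBaseChange Λ A B).baseChange C) := by
  obtain ⟨l, hl⟩ := exists_leftInverse_iff.2 h
  refine Function.LeftInverse.injective (g := l.baseChange C) fun y => ?_
  rw [← LinearMap.comp_apply, ← LinearMap.baseChange_comp, hl, LinearMap.baseChange_id,
    LinearMap.id_apply]

end Groth.Agent.CharHomRel
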